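import Mathlib

/-!
# Intermediate fields of finitely generated field extensions are finitely generated
-/

set_option autoImplicit false
universe u v
noncomputable section

namespace Groth.Agent.FieldFG

/-- The relative algebraic closure in a finitely generated extension is finite. -/
theorem finite_algebraicClosure (F : Type u) (K : Type v) [Field F] [Field K] [Algebra F K]
    [Algebra.EssFiniteType F K] : FiniteDimensional F (algebraicClosure F K) := by
  classical
  obtain ⟨t, ht⟩ := exists_isTranscendenceBasis F K
  let x : t → K := Subtype.val
  let M := IntermediateField.adjoin F (Set.range x)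
  haveI : Algebra.IsAlgebraic M K := ht.isAlgebraic_field
  haveI : Algebra.EssFiniteType M K := Algebra.EssFiniteType.of_comp F M K
  haveI : Module.Finite M K := Algebra.finite_of_essFiniteType_of_isAlgebraic
  refine Module.rank_lt_aleph0_iff.1 ((rank_le fun s hs => ?_).trans_lt
    (Cardinal.natCast_lt_aleph0 (n := Module.finrank M K)))
  let e : s → K := fun a => ((a : algebraicClosure F K) : K)
  haveI : Algebra.IsAlgebraic F (algebraicClosure F K) := inferInstance
  have hx : AlgebraicIndependent (algebraicClosure F K) x := ht.1.extendScalars _
  have hlin : LinearIndependent M e := by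
    rw [Fintype.linearIndependent_iff]
    intro c hc
    choose p q hpq using fun a => (IntermediateField.mem_adjoin_range_iff F x (c a : K)).1 (c a).2
    let Q : MvPolynomial t F := ∏ a ∈ Finset.univ.filter fun a => MvPolynomial.aeval x (q a) ≠ 0, q a
    have hQ : MvPolynomial.aeval x Q ≠ 0 := by
      rw [map_prod]
      exact Finset.prod_ne_zero_iff.2 fun a ha => (Finset.mem_filter.1 ha).2
    have hP : ∀ a, ∃ P : MvPolynomial t F, MvPolynomial.aeval x P = (c a : K) * MvPolynomial.aeval x Q := by
      intro a
      rcases eq_or_ne (MvPolynomial.aeval x (q a)) 0 with h0 | h0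
      · exact ⟨0, by rw [map_zero, hpq a, h0, div_zero, zero_mul]⟩
      · refine ⟨p a * ∏ b ∈ (Finset.univ.filter fun a => MvPolynomial.aeval x (q a) ≠ 0).erase a, q b, ?_⟩
        rw [hpq a, map_mul, map_prod, map_prod,
          ← Finset.mul_prod_erase _ _ (show a ∈ Finset.univ.filter _ from Finset.mem_filter.2 ⟨Finset.mem_univ a, h0⟩),
          ← mul_assoc, div_mul_cancel₀ _ h0]
    choose P hP using hP
    have h1 : ∑ a, MvPolynomial.map (algebraMap F (algebraicClosure F K)) (P a) *
        MvPolynomial.C (a : algebraicClosure F K) = 0 := by
      refine hx ?_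
      rw [map_zero, map_sum]
      simp only [map_mul, MvPolynomial.aeval_map_algebraMap, MvPolynomial.aeval_C, hP]
      have h2 : (∑ a, (c a : K) * e a) * MvPolynomial.aeval x Q = 0 := by
        rw [show ∑ a, (c a : K) * e a = ∑ a, c a • e a from rfl, hc, zero_mul]
      rw [Finset.sum_mul] at h2
      refine Eq.trans (Finset.sum_congr rfl fun a _ => ?_) h2
      show (c a : K) * _ * ((a : algebraicClosure F K) : K) = _
      ring
    intro a
    apply Subtype.ext
    have h3 : MvPolynomial.aeval x (P a) = 0 := by
      have : P a = 0 := by
        ext m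
        have h4 := congrArg (MvPolynomial.coeff m) h1
        rw [MvPolynomial.coeff_sum, MvPolynomial.coeff_zero] at h4
        simp only [mul_comm (MvPolynomial.map _ _), MvPolynomial.coeff_C_mul, MvPolynomial.coeff_map] at h4
        rw [MvPolynomial.coeff_zero]
        refine Fintype.linearIndependent_iff.1 hs (fun b : s => MvPolynomial.coeff m (P b)) ?_ a
        refine Eq.trans (Finset.sum_congr rfl fun b _ => ?_) h4
        rw [Algebra.smul_def, mul_comm]
      rw [this, map_zero]
    rw [hP a, mul_eq_zero] at h3
    exact h3.resolve_right hQ
  simpa using hlin.fintype_card_le_finrank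

/-- An intermediate field of a finitely generated extension is finitely generated. -/
theorem essFiniteType_intermediate (k : Type u) (K : Type v) [Field k] [Field K] [Algebra k K]
    [Algebra.EssFiniteType k K] (E : IntermediateField k K) : Algebra.EssFiniteType k E := by
  classical
  obtain ⟨t, ht⟩ := exists_isTranscendenceBasis k E
  have hfin : t.Finite := by
    have h1 : AlgebraicIndependent k fun a : t => E.val a := ht.1.map' (f := E.val) Subtype.val_injective
    have h2 := h1.lift_cardinalMk_le_trdeg
    have h3 : Algebra.trdeg k K < Cardinal.aleph0 := trdeg_lt_aleph0 k K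
    rw [← Cardinal.lt_aleph0_iff_set_finite, ← Cardinal.lift_lt_aleph0.{v, v}]
    exact lt_of_le_of_lt h2 (Cardinal.lift_lt_aleph0.2 h3)
  let F := IntermediateField.adjoin k t
  haveI : Algebra.IsAlgebraic F E := by
    have := ht.isAlgebraic_field
    rwa [Subtype.range_coe] at this
  haveI : Algebra.EssFiniteType k F := IntermediateField.essFiniteType_iff.2 ⟨hfin.toFinset, by rw [hfin.coe_toFinset]⟩
  haveI : Algebra.EssFiniteType F K := Algebra.EssFiniteType.of_comp k F K
  haveI := finite_algebraicClosure F K
  let j : E →ₗ[F] algebraicClosure F K :=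
    { toFun := fun y => ⟨(y : K), mem_algebraicClosure_iff.2
        ((Algebra.IsAlgebraic.isAlgebraic (R := F) y).algHom (IsScalarTower.toAlgHom F E K))⟩
      map_add' := fun _ _ => rfl
      map_smul' := fun _ _ => rfl }
  haveI : Module.Finite F E := Module.Finite.of_injective j fun a b h =>
    Subtype.ext (congrArg (fun z : algebraicClosure F K => (z : K)) h)
  exact Algebra.EssFiniteType.comp k F E

end Groth.Agent.FieldFG
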